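import Mathlib

/-!
# Avoiding a few subspaces

Over a field with at least four elements a few proper subspaces cover neither a vector space nor an
affine subspace, and off two proper subspaces some vector is no eigenvector of a given non-scalar map.
-/

set_option autoImplicit false

open Module

namespace CfsgLib.KnownSimple.RegUnip

variable {K V : Type*} [Field K] [AddCommGroup V] [Module K V]

/-- `K` has more than `k` elements. -/
def HasMoreThan (K : Type*) (k : ℕ) : Prop := ∀ s : Finset K, s.card ≤ k → ∃ c, c ∉ s

omit [Field K] in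
lemma HasMoreThan.mono {a b : ℕ} (h : HasMoreThan K b) (hab : a ≤ b) : HasMoreThan K a :=
  fun s hs => h s (hs.trans hab)

omit [Field K] in
lemma hasMoreThan_of_le_mk {k : ℕ} (h : ((k + 1 : ℕ) : Cardinal) ≤ Cardinal.mk K) :
    HasMoreThan K k := by
  intro s hs
  by_contra! hall
  have : Fintype K := ⟨s, hall⟩
  rw [Cardinal.mk_fintype, Nat.cast_le] at h
  have := Finset.card_le_univ (Finset.univ : Finset K)
  have h2 : Fintype.card K = s.card := by
      rw [show s = Finset.univ from Finset.eq_univ_of_forall hall, Finset.card_univ]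
  omega

/-- Fields with at least four elements and `2 ≠ 0` have more than four elements. -/
lemma hasMoreThan_four (h : ((3 + 1 : ℕ) : Cardinal) ≤ Cardinal.mk K) (h2 : (2 : K) ≠ 0) :
    HasMoreThan K 4 := by
  intro s hs
  by_contra! hall
  have : Fintype K := ⟨s, hall⟩
  rw [Cardinal.mk_fintype, Nat.cast_le] at h
  have h4 : Fintype.card K = 4 := by
    have h2 : Fintype.card K = s.card := by
      rw [show s = Finset.univ from Finset.eq_univ_of_forall hall, Finset.card_univ]
    omega
  have h0 : ((4 : ℕ) : K) = 0 := h4 ▸ Nat.cast_card_eq_zero K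
  exact h2 (pow_eq_zero_iff two_ne_zero |>.1 (by norm_num; exact_mod_cast h0))

lemma affine_line_subsingleton {S : Submodule K V} {v d : V} (hv : v ∉ S) {a b : K}
    (ha : v + a • d ∈ S) (hb : v + b • d ∈ S) : a = b := by
  by_contra hne
  refine hv ?_
  have hd : (a - b) • d ∈ S := by
    have := S.sub_mem ha hb
    rwa [add_sub_add_left_eq_sub, ← sub_smul] at this
  have hd' : d ∈ S := (S.smul_mem_iff (sub_ne_zero.2 hne)).1 hd
  simpa using S.sub_mem ha (S.smul_mem a hd')

/-- An affine subspace is not covered by at most `k` subspaces none of which contains it, if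
`K` has more than `k` elements. -/
lemma exists_affine_avoid [DecidableEq (Submodule K V)] {k : ℕ} (hK : HasMoreThan K k)
    (D : Submodule K V) (v₀ : V) (s : Finset (Submodule K V)) (hs : s.card ≤ k)
    (hA : ∀ S ∈ s, ∃ d ∈ D, v₀ + d ∉ S) : ∃ d ∈ D, ∀ S ∈ s, v₀ + d ∉ S := by
  classical
  induction s using Finset.induction with
  | empty => exact ⟨0, D.zero_mem, by simp⟩
  | @insert A t hnot ih =>
    have hcard : t.card + 1 ≤ k := by rwa [Finset.card_insert_of_notMem hnot] at hs
    obtain ⟨d, hd, hd'⟩ := ih (by omega) fun S hS => hA S (Finset.mem_insert_of_mem hS)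
    by_cases hA' : v₀ + d ∈ A
    · obtain ⟨e, he, he'⟩ := hA A (Finset.mem_insert_self _ _)
      let f : Submodule K V → K := fun S =>
        if h : ∃ c : K, (v₀ + d) + c • (e - d) ∈ S then h.choose else 0
      obtain ⟨c, hc⟩ := hK (insert 0 (t.image f))
        ((Finset.card_insert_le _ _).trans (by have := Finset.card_image_le (s := t) (f := f); omega))
      rw [Finset.mem_insert, not_or, Finset.mem_image] at hc
      refine ⟨d + c • (e - d), D.add_mem hd (D.smul_mem _ (D.sub_mem he hd)), ?_⟩
      intro S hS hmem
      rw [← add_assoc] at hmem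
      rcases Finset.mem_insert.1 hS with rfl | hS
      · have h1 : c • (e - d) ∈ S := by simpa using S.sub_mem hmem hA'
        have h2 : e - d ∈ S := (S.smul_mem_iff hc.1).1 h1
        exact he' (by simpa using S.add_mem hA' h2)
      · refine hc.2 ⟨S, hS, ?_⟩
        have hex : ∃ c : K, (v₀ + d) + c • (e - d) ∈ S := ⟨c, hmem⟩
        simp only [f, dif_pos hex]
        exact affine_line_subsingleton (hd' S hS) hex.choose_spec hmem
    · refine ⟨d, hd, fun S hS => ?_⟩
      rcases Finset.mem_insert.1 hS with rfl | hS
      · exact hA'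
      · exact hd' S hS

/-- At most `k + 1` proper subspaces do not cover the space. -/
lemma exists_notMem [DecidableEq (Submodule K V)] {k : ℕ} (hK : HasMoreThan K k)
    (s : Finset (Submodule K V)) (hs : s.card ≤ k + 1) (htop : ∀ S ∈ s, S ≠ ⊤) :
    ∃ v : V, ∀ S ∈ s, v ∉ S := by
  classical
  induction s using Finset.induction with
  | empty => exact ⟨0, by simp⟩
  | @insert A t hnot ih =>
    have hcard : t.card ≤ k := by rw [Finset.card_insert_of_notMem hnot] at hs; omega
    obtain ⟨v, hv⟩ := ih (by omega) fun S hS => htop S (Finset.mem_insert_of_mem hS)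
    obtain ⟨w, hw⟩ : ∃ w, w ∉ A := by
      by_contra! h
      exact htop A (Finset.mem_insert_self _ _) (eq_top_iff.2 fun x _ => h x)
    by_cases hA : v ∈ A
    · let f : Submodule K V → K := fun S =>
        if h : ∃ c : K, w + c • v ∈ S then h.choose else 0
      obtain ⟨c, hc⟩ := hK (t.image f) (Finset.card_image_le.trans hcard)
      refine ⟨w + c • v, fun S hS hmem => ?_⟩
      rcases Finset.mem_insert.1 hS with rfl | hS
      · exact hw (by simpa using S.sub_mem hmem (S.smul_mem c hA))
      · refine hc (Finset.mem_image.2 ⟨S, hS, ?_⟩)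
        have hex : ∃ c : K, w + c • v ∈ S := ⟨c, hmem⟩
        simp only [f, dif_pos hex]
        by_contra hne
        have h1 : (hex.choose - c) • v ∈ S := by
          have := S.sub_mem hex.choose_spec hmem
          rwa [add_sub_add_left_eq_sub, ← sub_smul] at this
        exact hv S hS ((S.smul_mem_iff (sub_ne_zero.2 hne)).1 h1)
    · refine ⟨v, fun S hS => ?_⟩
      rcases Finset.mem_insert.1 hS with rfl | hS
      · exact hA
      · exact hv S hS

/-- A non-scalar map has a non-eigenvector outside two given proper subspaces. -/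
lemma exists_noneigen (hK : HasMoreThan K 3) {f : End K V} (hf : ¬ ∃ c : K, f = c • 1)
    {A B : Submodule K V} (hA : A ≠ ⊤) (hB : B ≠ ⊤) :
    ∃ v, v ∉ A ∧ v ∉ B ∧ f v ∉ K ∙ v := by
  classical
  by_contra! hall
  obtain ⟨u, hu⟩ := exists_notMem (hK.mono (a := 1) (by norm_num)) {A, B}
    ((Finset.card_insert_le _ _).trans (by simp)) (by simp [hA, hB])
  simp only [Finset.mem_insert, Finset.mem_singleton, forall_eq_or_imp, forall_eq] at hu
  obtain ⟨a, ha⟩ := Submodule.mem_span_singleton.1 (hall u hu.1 hu.2)
  have key : ∀ x, x ∉ A → x ∉ B → f x = a • x := by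
    intro x hxA hxB
    obtain ⟨b, hb⟩ := Submodule.mem_span_singleton.1 (hall x hxA hxB)
    by_cases hdep : x ∈ K ∙ u
    · obtain ⟨c, rfl⟩ := Submodule.mem_span_singleton.1 hdep
      rw [map_smul, ← ha, smul_comm]
    · let g : Submodule K V → K := fun S =>
        if h : ∃ c : K, x + c • u ∈ S then h.choose else 0
      obtain ⟨c, hc⟩ := hK {0, g A, g B} Finset.card_le_three
      simp only [Finset.mem_insert, Finset.mem_singleton, not_or] at hc
      have hout : ∀ S : Submodule K V, u ∉ S → c ≠ g S → x + c • u ∉ S := by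
        intro S huS hg hmem
        have hex : ∃ c : K, x + c • u ∈ S := ⟨c, hmem⟩
        simp only [g, dif_pos hex] at hg
        refine huS ((S.smul_mem_iff (sub_ne_zero.2 hg)).1 ?_)
        have := S.sub_mem hmem hex.choose_spec
        rwa [add_sub_add_left_eq_sub, ← sub_smul] at this
      obtain ⟨e, he⟩ := Submodule.mem_span_singleton.1
        (hall _ (hout A hu.1 hc.2.1) (hout B hu.2 hc.2.2))
      rw [map_add, map_smul, ← hb, ← ha, smul_add, smul_smul, smul_smul] at he
      have heb : e = b := by
        by_contra hne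
        refine hdep (Submodule.mem_span_singleton.2 ⟨(e - b)⁻¹ * (c * a - e * c), ?_⟩)
        have h1 : (e - b) • x = (c * a - e * c) • u := by
          rw [sub_smul, sub_smul]
          linear_combination (norm := module) he
        rw [mul_smul, ← h1, inv_smul_smul₀ (sub_ne_zero.2 hne)]
      subst heb
      have h2 : (e * c - c * a) • u = 0 := by
        rw [sub_smul]; linear_combination (norm := module) he
      have hu0 : u ≠ 0 := fun h => hu.1 (h ▸ A.zero_mem)
      have : e * c = c * a := sub_eq_zero.1 ((smul_eq_zero.1 h2).resolve_right hu0)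
      rw [← hb, mul_left_cancel₀ hc.1 (by rw [← this, mul_comm] : c * e = c * a)]
  refine hf ⟨a, LinearMap.ext fun x => ?_⟩
  rw [LinearMap.smul_apply, Module.End.one_apply]
  by_contra hx
  have hk : LinearMap.ker (f - a • 1) ≠ ⊤ := fun h => hx (sub_eq_zero.1 (by
    simpa using LinearMap.congr_fun (LinearMap.ker_eq_top.1 h) x))
  obtain ⟨y, hy⟩ := exists_notMem (hK.mono (a := 2) (by norm_num))
    {A, B, LinearMap.ker (f - a • 1)} Finset.card_le_three (by simp [hA, hB, hk])
  simp only [Finset.mem_insert, Finset.mem_singleton, forall_eq_or_imp, forall_eq,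
    LinearMap.mem_ker] at hy
  exact hy.2.2 (by simp [key y hy.1 hy.2.1])

end CfsgLib.KnownSimple.RegUnip
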