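import Mathlib

/-!
# One step of the factorisation into two regular unipotent maps

Sourour's reduction of a linear map `T` along a vector `v` and a functional `φ` with
`φ v = φ (T v) = 1`, carrying the two conditions which keep both factors regular.
-/

set_option autoImplicit false

open Module LinearMap

namespace CfsgLib.KnownSimple.RegUnip

variable {K V : Type*} [Field K] [AddCommGroup V] [Module K V]

/-- `T` is a product of two regular unipotent maps (of degree `m`), the first regular at `x`, the
second at the functional `y`. -/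
def Factors (m : ℕ) (T : End K V) (x : V) (y : Dual K V) : Prop :=
  ∃ L U : End K V, T = L * U ∧ (L - 1) ^ (m + 1) = 0 ∧ (U - 1) ^ (m + 1) = 0 ∧
    ((L - 1) ^ m) x ≠ 0 ∧ ∃ h, y (((U - 1) ^ m) h) ≠ 0

variable {φ : Dual K V} {v : V}

/-- Projection onto the kernel of `φ` along `v`. -/
def proj (hv : φ v = 1) : V →ₗ[K] ker φ :=
  (LinearMap.id - φ.smulRight v).codRestrict _ fun u => by simp [hv]

lemma coe_proj (hv : φ v = 1) (u : V) : (proj hv u : V) = u - φ u • v := rfl

lemma proj_coe (hv : φ v = 1) (h : ker φ) : proj hv (h : V) = h :=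
  Subtype.ext (by simp [coe_proj])

lemma proj_self (hv : φ v = 1) : proj hv v = 0 := Subtype.ext (by simp [coe_proj, hv])

/-- The map left on the kernel of `φ`. -/
def rest (T : End K V) (hTv : φ (T v) = 1) : End K (ker φ) :=
  (((LinearMap.id - φ.smulRight (T v)) : V →ₗ[K] V) ∘ₗ T ∘ₗ (ker φ).subtype).codRestrict _
    fun u => by simp [hTv]

lemma coe_rest (T : End K V) (hTv : φ (T v) = 1) (h : ker φ) :
    (rest T hTv h : V) = T h - φ (T h) • T v := rfl

/-- The vector `T v - v` in the kernel of `φ`. -/
def nextVec (T : End K V) (hv : φ v = 1) (hTv : φ (T v) = 1) : ker φ :=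
  ⟨T v - v, by simp [hv, hTv]⟩

/-- The functional `φ ∘ T` on the kernel of `φ`. -/
def nextFun (φ : Dual K V) (T : End K V) : Dual K (ker φ) := φ ∘ₗ T ∘ₗ (ker φ).subtype

lemma factors_extend {m : ℕ} {T : End K V} {x : V} {y : Dual K V}
    (hv : φ v = 1) (hTv : φ (T v) = 1) (hx : φ x ≠ 0) (hy : y v ≠ 0)
    (hrec : Factors m (rest T hTv) (nextVec T hv hTv) (nextFun φ T)) :
    Factors (m + 1) T x y := by
  obtain ⟨L', U', hLU, hL, hU, hx', h', hy'⟩ := hrec
  set P := proj hv with hP
  let L : End K V := φ.smulRight (T v) + (ker φ).subtype ∘ₗ L' ∘ₗ P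
  let U : End K V := (φ + nextFun φ T ∘ₗ P).smulRight v + (ker φ).subtype ∘ₗ U' ∘ₗ P
  have hL1 : ∀ u, (L - 1) u = ((φ u • nextVec T hv hTv + (L' - 1) (P u) : ker φ) : V) := by
    intro u
    simp only [L, LinearMap.sub_apply, Module.End.one_apply, LinearMap.add_apply,
      LinearMap.smulRight_apply, LinearMap.comp_apply, Submodule.subtype_apply, Submodule.coe_add,
      Submodule.coe_smul, Submodule.coe_sub, nextVec, hP, coe_proj]
    module
  have hLcoe : ∀ (k : ℕ) (h : ker φ), ((L - 1) ^ k) (h : V) = (((L' - 1) ^ k) h : V) := by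
    intro k
    induction k with
    | zero => simp
    | succ k ih =>
      intro h
      rw [pow_succ, Module.End.mul_apply, hL1, hP, proj_coe, mem_ker.1 h.2, zero_smul, zero_add, ih,
        pow_succ, Module.End.mul_apply]
  have hLpow : ∀ (k : ℕ) (u : V), ((L - 1) ^ (k + 1)) u =
      ((φ u • ((L' - 1) ^ k) (nextVec T hv hTv) + ((L' - 1) ^ (k + 1)) (P u) : ker φ) : V) := by
    intro k u
    rw [pow_succ, Module.End.mul_apply, hL1, hLcoe, map_add, map_smul, pow_succ,
      Module.End.mul_apply]
  have hU1 : ∀ u, (U - 1) u = nextFun φ T (P u) • v + (((U' - 1) (P u) : ker φ) : V) := by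
    intro u
    simp only [U, LinearMap.sub_apply, Module.End.one_apply, LinearMap.add_apply,
      LinearMap.smulRight_apply, LinearMap.comp_apply, Submodule.subtype_apply,
      Submodule.coe_sub, hP, coe_proj]
    module
  have hUpow : ∀ (k : ℕ) (u : V), ((U - 1) ^ (k + 1)) u =
      nextFun φ T (((U' - 1) ^ k) (P u)) • v + ((((U' - 1) ^ (k + 1)) (P u) : ker φ) : V) := by
    intro k
    induction k with
    | zero => intro u; simp [hU1]
    | succ k ih =>
      intro u
      rw [pow_succ, Module.End.mul_apply, ih, hU1, hP, map_add, map_smul, proj_self, proj_coe,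
        smul_zero, zero_add, pow_succ (U' - 1) (k + 1), pow_succ (U' - 1) k]
      rfl
  refine ⟨L, U, LinearMap.ext fun u => ?_, ?_, ?_, ?_, (h' : V), ?_⟩
  · have hPu : φ (P u : V) = 0 := (P u).2
    have h1 : φ (U u) = φ u + nextFun φ T (P u) := by
      simp [U, hv]
    have h2 : P (U u) = U' (P u) := by
      simp [U, hP, proj_self, proj_coe]
    have h3 : (L' (U' (P u)) : V) = T (P u : V) - φ (T (P u : V)) • T v := by
      rw [← Module.End.mul_apply, ← hLU, coe_rest]
    rw [Module.End.mul_apply]
    simp only [L, LinearMap.add_apply, LinearMap.smulRight_apply, LinearMap.comp_apply,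
      Submodule.subtype_apply, h1, h2, h3, nextFun]
    rw [show T u = φ u • T v + T (P u : V) by rw [hP, coe_proj, map_sub, map_smul]; abel]
    module
  · refine LinearMap.ext fun u => ?_
    rw [hLpow, hL, pow_succ, hL]
    simp
  · refine LinearMap.ext fun u => ?_
    rw [hUpow, hU, pow_succ, hU]
    simp
  · rw [hLpow, hL]
    simpa using ⟨hx, hx'⟩
  · rw [hUpow, hU, hP, proj_coe]
    simpa using ⟨hy', hy⟩

lemma det_rest [FiniteDimensional K V] {T : End K V} (hv : φ v = 1) (hTv : φ (T v) = 1) :
    LinearMap.det (rest T hTv) = LinearMap.det T := by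
  set P := proj hv with hP
  let e : V ≃ₗ[K] K × ker φ := LinearEquiv.ofLinear (φ.prod P)
    ((LinearMap.id.smulRight v).coprod (ker φ).subtype)
    (LinearMap.ext fun p => by
      obtain ⟨a, h⟩ := p
      refine Prod.ext ?_ ?_
      · simp [hv]
      · simp [hP, proj_self, proj_coe])
    (LinearMap.ext fun u => by simp [hP, coe_proj])
  let E : End K V := e.symm.toLinearMap ∘ₗ (LinearMap.id.prodMap (rest T hTv)) ∘ₗ e.toLinearMap
  have hE : LinearMap.det E = LinearMap.det (rest T hTv) := by
    have := LinearMap.det_conj (LinearMap.id.prodMap (rest T hTv)) e.symm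
    rw [LinearEquiv.symm_symm] at this
    rw [show E = _ from rfl, this, LinearMap.det_prodMap, LinearMap.det_id, one_mul]
  have hT : T = (LinearMap.transvection φ (T v - v)) * E *
      (LinearMap.transvection (nextFun φ T ∘ₗ P) v) := by
    refine LinearMap.ext fun u => ?_
    have hPu : φ (P u : V) = 0 := (P u).2
    set c := nextFun φ T (P u) with hc
    have hEu : E (u + c • v) = (φ u + c) • v + (rest T hTv (P u) : V) := by
      simp [E, e, hv, hP, proj_self]
    rw [Module.End.mul_apply, Module.End.mul_apply, LinearMap.transvection.apply,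
      LinearMap.transvection.apply, show (nextFun φ T ∘ₗ P) u = c from rfl, hEu]
    rw [map_add, map_smul, hv, mem_ker.1 (rest T hTv (P u)).2, coe_rest,
      show T u = φ u • T v + T (P u : V) by rw [hP, coe_proj, map_sub, map_smul]; abel,
      show φ (T (P u : V)) = c from rfl]
    simp only [smul_eq_mul, mul_one, add_zero]
    module
  conv_rhs => rw [hT]
  rw [map_mul, map_mul, LinearMap.transvection.det, LinearMap.transvection.det, hE]
  simp [nextFun, hP, proj_self, hv, hTv]

end CfsgLib.KnownSimple.RegUnip
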