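import Cfsg.Agent.Lib.KnownSimple.RegUnip.Avoid
import Cfsg.Agent.Lib.KnownSimple.RegUnip.Extend

/-!
# Products of two regular unipotent maps

A non-scalar map of determinant one whose difference with `1` has rank at least two is a product of
two regular unipotent maps, over any field with at least four elements.
-/

set_option autoImplicit false

open Module LinearMap

namespace CfsgLib.KnownSimple.RegUnip

universe u

variable {K : Type*} [Field K] {V : Type u} [AddCommGroup V] [Module K V]

lemma sub_notMem_of_noneigen {f : End K V} {v : V} (hne : f v ∉ K ∙ v) :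
    v ∉ K ∙ (f v - v) := by
  intro h
  obtain ⟨c, hc⟩ := Submodule.mem_span_singleton.1 h
  rcases eq_or_ne c 0 with rfl | hc0
  · rw [zero_smul] at hc
    exact hne (by simp [← hc])
  · refine hne (Submodule.mem_span_singleton.2 ⟨c⁻¹ * (1 + c), ?_⟩)
    have h1 : c • f v = (1 + c) • v := by
      rw [add_smul, one_smul]; linear_combination (norm := module) hc
    rw [mul_smul, ← h1, inv_smul_smul₀ hc0]

/-- Functionals with value one at `v` and `f v` separate from zero any point off `K (f v - v)`. -/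
lemma exists_phi {f : End K V} {v z : V} (hne : f v ∉ K ∙ v) (hz : z ∉ K ∙ (f v - v)) :
    ∃ φ : Dual K V, φ v = 1 ∧ φ (f v) = 1 ∧ φ z ≠ 0 := by
  obtain ⟨a, ha, ha'⟩ := Submodule.exists_dual_map_eq_bot_of_notMem (sub_notMem_of_noneigen hne)
    inferInstance
  obtain ⟨b, hb, hb'⟩ := Submodule.exists_dual_map_eq_bot_of_notMem hz inferInstance
  have had : a (f v - v) = 0 := by
    simpa [ha'] using Submodule.mem_map_of_mem (f := a) (Submodule.mem_span_singleton_self (f v - v))
  have hbd : b (f v - v) = 0 := by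
    simpa [hb'] using Submodule.mem_map_of_mem (f := b) (Submodule.mem_span_singleton_self (f v - v))
  obtain ⟨g, hg1, hg2, hgd⟩ : ∃ g : Dual K V, g v ≠ 0 ∧ g z ≠ 0 ∧ g (f v - v) = 0 := by
    by_cases h1 : a z = 0
    · by_cases h2 : b v = 0
      · exact ⟨a + b, by simp [h2, ha], by simp [h1, hb], by simp [had, hbd, -map_sub]⟩
      · exact ⟨b, h2, hb, hbd⟩
    · exact ⟨a, ha, h1, had⟩
  rw [map_sub, sub_eq_zero] at hgd
  exact ⟨(g v)⁻¹ • g, by simp [hg1], by simp [hgd, hg1], by simp [hg1, hg2]⟩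

/-- The image of the kernel of `φ` under `T - 1`, with `T v` added. -/
def span3 (T : End K V) (v : V) (φ : Dual K V) : Submodule K V :=
  (ker φ).map (T - 1) ⊔ K ∙ T v

lemma finrank_span3 [FiniteDimensional K V] {T : End K V} {v : V} {φ : Dual K V}
    (h : T v ∉ (ker φ).map (T - 1)) :
    finrank K (span3 T v φ) = finrank K ((ker φ).map (T - 1)) + 1 := by
  have hv0 : T v ≠ 0 := fun h0 => h (h0 ▸ Submodule.zero_mem _)
  have hd : (ker φ).map (T - 1) ⊓ K ∙ T v = ⊥ :=
    ((Submodule.disjoint_span_singleton' hv0).2 h).eq_bot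
  have := Submodule.finrank_sup_add_finrank_inf_eq ((ker φ).map (T - 1)) (K ∙ T v)
  rw [hd, finrank_bot, finrank_span_singleton hv0] at this
  exact this

lemma finrank_range_le_map_add_one [FiniteDimensional K V] {T : End K V} {v : V} {φ : Dual K V}
    (hv : φ v = 1) :
    finrank K (range (T - 1)) ≤ finrank K ((ker φ).map (T - 1)) + 1 := by
  have hle : range (T - 1) ≤ (ker φ).map (T - 1) ⊔ K ∙ (T - 1) v := by
    rintro _ ⟨u, rfl⟩
    rw [show (T - 1) u = (T - 1) (u - φ u • v) + φ u • (T - 1) v by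
      rw [← map_smul, ← map_add, sub_add_cancel]]
    exact Submodule.add_mem_sup (Submodule.mem_map_of_mem (by simp [hv]))
      (Submodule.smul_mem _ _ (Submodule.mem_span_singleton_self _))
  refine (Submodule.finrank_mono hle).trans ((Submodule.finrank_add_le_finrank_add_finrank _ _).trans ?_)
  have : finrank K (K ∙ (T - 1) v : Submodule K V) ≤ 1 := by
    simpa using finrank_span_le_card ({(T - 1) v} : Set V)
  omega

/-- Two scalars with large eigenspaces and a small image exclude each other. -/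
lemma not_two_large_eigenspaces [FiniteDimensional K V] {T : End K V} {v : V} {a b : K}
    (hne : T v ∉ K ∙ v) (hab : a ≠ b) (hn : 4 ≤ finrank K V)
    (ha : range (T - a • 1) ≤ Submodule.span K {v, T v})
    (hb : finrank K V ≤ finrank K (ker (T - b • 1)) + 2) : False := by
  set Ka := ker (T - a • 1)
  set Kb := ker (T - b • 1)
  have hA : ∀ u ∈ Ka, T u = a • u := fun u hu => sub_eq_zero.1 (by simpa [Ka] using hu)
  have hB : ∀ u ∈ Kb, T u = b • u := fun u hu => sub_eq_zero.1 (by simpa [Kb] using hu)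
  have hd : Ka ⊓ Kb = ⊥ := by
    rw [eq_bot_iff]
    intro u hu
    have h := (hA u hu.1).symm.trans (hB u hu.2)
    rw [← sub_eq_zero, ← sub_smul] at h
    simpa using (smul_eq_zero.1 h).resolve_left (sub_ne_zero.2 hab)
  have hspan : finrank K (Submodule.span K ({v, T v} : Set V)) ≤ 2 := by
    classical
    refine (finrank_span_le_card _).trans ?_
    simpa using Finset.card_insert_le v ({T v} : Finset V)
  have h1 : finrank K (range (T - a • 1)) + finrank K Ka = finrank K V :=
    finrank_range_add_finrank_ker (T - a • 1)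
  have h2 := Submodule.finrank_mono ha
  replace hb : finrank K V ≤ finrank K Kb + 2 := hb
  have h3 := Submodule.finrank_sup_add_finrank_inf_eq Ka Kb
  rw [hd, finrank_bot, add_zero] at h3
  have h4 := Submodule.finrank_le (Ka ⊔ Kb)
  have htop : Ka ⊔ Kb = ⊤ := Submodule.eq_top_of_finrank_eq (by omega)
  have hrange : range (T - a • 1) ≤ Kb := by
    rintro _ ⟨u, rfl⟩
    obtain ⟨p, hp, q, hq, rfl⟩ := Submodule.mem_sup.1 (htop ▸ Submodule.mem_top : u ∈ Ka ⊔ Kb)
    have : (T - a • 1) (p + q) = (b - a) • q := by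
      simp only [LinearMap.sub_apply, LinearMap.smul_apply, Module.End.one_apply, map_add, hA p hp,
        hB q hq]
      module
    rw [this]
    exact Kb.smul_mem _ hq
  have heq : range (T - a • 1) = Submodule.span K {v, T v} :=
    Submodule.eq_of_le_of_finrank_le ha (by omega)
  have hvb : v ∈ Kb := hrange (heq ▸ Submodule.subset_span (by simp))
  exact hne (Submodule.mem_span_singleton.2 ⟨b, (hB v hvb).symm⟩)

/-- In dimension three a map with determinant one and no fixed vector satisfies no relation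
`(T - 1) ^ 2 = c T`, unless it is scalar. -/
lemma quadratic_contradiction [FiniteDimensional K V] {T : End K V} (hn : finrank K V = 3)
    (hdet : LinearMap.det T = 1) (hns : ¬ ∃ c : K, T = c • 1) (hinj : ker (T - 1) = ⊥) {c : K}
    (hc : (T - 1) ^ 2 = c • T) : False := by
  have : Nontrivial V := Module.nontrivial_of_finrank_pos (R := K) (by omega)
  set s := 2 + c with hs
  have hsq : T * T = s • T - 1 := by
    rw [sq] at hc
    rw [hs, add_smul, ← hc, two_smul]
    noncomm_ring
  set P := T.charpoly with hP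
  have hdeg : P.natDegree = 3 := by rw [hP, LinearMap.charpoly_natDegree, hn]
  have hlead : P.coeff 3 = 1 := by rw [← hdeg]; exact T.charpoly_monic.coeff_natDegree
  have h0 : P.coeff 0 = -1 := by
    have := LinearMap.det_eq_sign_charpoly_coeff T
    rw [hdet, hn, ← hP] at this
    linear_combination this
  have haev : Polynomial.aeval T P = 0 := LinearMap.aeval_self_charpoly T
  rw [Polynomial.aeval_eq_sum_range, hdeg] at haev
  simp only [Finset.sum_range_succ, Finset.sum_range_zero, zero_add, pow_zero, pow_one, h0, hlead,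
    one_smul] at haev
  rw [show T ^ 3 = T * (T * T) by rw [pow_succ', sq], show T ^ 2 = T * T from sq T, hsq, mul_sub,
    mul_smul_comm, hsq, mul_one] at haev
  have hlin : (P.coeff 1 + P.coeff 2 * s + s * s - 1) • T = (1 + P.coeff 2 + s) • (1 : End K V) := by
    linear_combination (norm := module) haev
  by_cases hA : P.coeff 1 + P.coeff 2 * s + s * s - 1 = 0
  · rw [hA, zero_smul] at hlin
    have hB : 1 + P.coeff 2 + s = 0 := (smul_eq_zero.1 hlin.symm).resolve_right one_ne_zero
    have hroot : P.IsRoot 1 := by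
      rw [Polynomial.IsRoot, Polynomial.eval_eq_sum_range, hdeg]
      simp only [Finset.sum_range_succ, Finset.sum_range_zero, one_pow, mul_one, h0, hlead]
      linear_combination hA + (1 - s) * hB
    obtain ⟨u, hu, hu0⟩ :=
      ((Module.End.hasEigenvalue_iff_isRoot_charpoly T 1).2 hroot).exists_hasEigenvector
    rw [Module.End.mem_eigenspace_iff, one_smul] at hu
    exact hu0 ((Submodule.mem_bot K).1 (hinj ▸ by simp [hu]))
  · exact hns ⟨(P.coeff 1 + P.coeff 2 * s + s * s - 1)⁻¹ * (1 + P.coeff 2 + s), by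
      rw [mul_smul, ← hlin, inv_smul_smul₀ hA]⟩

lemma comap_ne_top {f : End K V} (hf : 2 ≤ finrank K (range f)) [FiniteDimensional K V] (z : V) :
    (K ∙ z).comap f ≠ ⊤ := by
  intro h
  have hle : range f ≤ K ∙ z := by
    rintro _ ⟨u, rfl⟩
    exact Submodule.mem_comap.1 (h ▸ Submodule.mem_top : u ∈ (K ∙ z).comap f)
  have h1 := Submodule.finrank_mono hle
  have h2 : finrank K (K ∙ z : Submodule K V) ≤ 1 := by
    simpa using finrank_span_le_card ({z} : Set V)
  omega

lemma ker_eval_ne_top {z : V} (hz : z ≠ 0) : ker (Dual.eval K V z) ≠ ⊤ := fun h =>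
  hz ((Module.forall_dual_apply_eq_zero_iff K z).1 fun φ => LinearMap.congr_fun (ker_eq_top.1 h) φ)

lemma notMem_span_of {z d : V} (hz : z ≠ 0) (h : d ∉ K ∙ z) : z ∉ K ∙ d := by
  intro h'
  obtain ⟨c, rfl⟩ := Submodule.mem_span_singleton.1 h'
  have hc : c ≠ 0 := fun h0 => hz (by simp [h0])
  exact h (Submodule.mem_span_singleton.2 ⟨c⁻¹, inv_smul_smul₀ hc d⟩)

/-- The choice of the vector. -/
lemma exists_vector [FiniteDimensional K V] (hK : HasMoreThan K 3) {T : End K V} {x : V}
    {y : Dual K V} (hdet : LinearMap.det T = 1) (hns : ¬ ∃ c : K, T = c • 1)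
    (hr : 2 ≤ finrank K (range (T - 1))) (hx : x ≠ 0) (hy : y ≠ 0) :
    ∃ v z, y v ≠ 0 ∧ T v ∉ K ∙ v ∧ x ∉ K ∙ (T v - v) ∧ z ∉ K ∙ (T v - v) ∧
      (4 ≤ finrank K V → 3 ≤ finrank K (range (T - 1)) → z = v) ∧
      (3 ≤ finrank K V → ∀ φ : Dual K V, φ v = 1 → φ z ≠ 0 → 3 ≤ finrank K (span3 T v φ)) := by
  classical
  have hA : ker y ≠ ⊤ := fun h => hy (ker_eq_top.1 h)
  have hB : (K ∙ x).comap (T - 1) ≠ ⊤ := comap_ne_top hr x
  have hrk := finrank_range_add_finrank_ker (T - 1)
  have key : ∀ v, v ∉ ker y → v ∉ (K ∙ x).comap (T - 1) →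
      y v ≠ 0 ∧ x ∉ K ∙ (T v - v) := fun v h1 h2 =>
    ⟨by simpa using h1, notMem_span_of hx (by simpa using h2)⟩
  by_cases hlt : finrank K (range (T - 1)) < finrank K V
  · obtain ⟨k, hk, hk0⟩ : ∃ k ∈ ker (T - 1), k ≠ 0 := Submodule.exists_mem_ne_zero_of_ne_bot
      (fun h => by rw [h, finrank_bot] at hrk; omega)
    have hC : range (T - 1) ≠ ⊤ := fun h => by rw [h, finrank_top] at hlt; omega
    obtain ⟨v, hv⟩ := exists_notMem hK
      {ker y, (K ∙ x).comap (T - 1), range (T - 1), (K ∙ k).comap (T - 1)}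
      Finset.card_le_four (by simp [hA, hB, hC, comap_ne_top hr k])
    simp only [Finset.mem_insert, Finset.mem_singleton, forall_eq_or_imp, forall_eq] at hv
    obtain ⟨hv1, hv2, hv3, hv4⟩ := hv
    have hne : T v ∉ K ∙ v := by
      intro h
      obtain ⟨c, hc⟩ := Submodule.mem_span_singleton.1 h
      by_cases hc1 : c = 1
      · refine hv2 (Submodule.mem_comap.2 ?_)
        simp [← hc, hc1]
      · refine hv3 ⟨(c - 1)⁻¹ • v, ?_⟩
        rw [map_smul, show (T - 1) v = (c - 1) • v by simp [← hc, sub_smul],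
          inv_smul_smul₀ (sub_ne_zero.2 hc1)]
    have hTv : ∀ φ : Dual K V, T v ∉ (ker φ).map (T - 1) := by
      rintro φ ⟨u, -, hu⟩
      refine hv3 ⟨u - v, ?_⟩
      rw [map_sub, hu]
      simp
    obtain ⟨hy', hx'⟩ := key v hv1 hv2
    by_cases h2 : finrank K (range (T - 1)) = 2
    · refine ⟨v, k, hy', hne, hx', notMem_span_of hk0 (by simpa using hv4),
        fun _ h => by omega, fun _ φ hφv hφk => ?_⟩
      have hmap : (ker φ).map (T - 1) = range (T - 1) := by
        refine le_antisymm map_le_range ?_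
        rintro _ ⟨u, rfl⟩
        refine ⟨u - (φ u / φ k) • k, by simp [div_mul_cancel₀ _ hφk], ?_⟩
        rw [map_sub, map_smul, mem_ker.1 hk, smul_zero, sub_zero]
      rw [finrank_span3 (hTv φ), hmap, h2]
    · refine ⟨v, v, hy', hne, hx', sub_notMem_of_noneigen hne, fun _ _ => rfl,
        fun _ φ hφv _ => ?_⟩
      have := finrank_range_le_map_add_one (T := T) hφv
      rw [finrank_span3 (hTv φ)]
      omega
  · have hinj : ker (T - 1) = ⊥ := Submodule.finrank_eq_zero.1 (by
      have := Submodule.finrank_le (range (T - 1)); omega)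
    by_cases h3 : finrank K V = 3
    · obtain ⟨Tu, hTu⟩ : IsUnit T := (LinearMap.isUnit_iff_isUnit_det T).2 (hdet ▸ isUnit_one)
      set S : End K V := ((Tu⁻¹ : (End K V)ˣ) : End K V) * (T - 1) ^ 2 with hS
      have hS' : T * S = (T - 1) ^ 2 := by rw [hS, ← mul_assoc, ← hTu, Units.mul_inv, one_mul]
      have hinvT : ((Tu⁻¹ : (End K V)ˣ) : End K V) * T = 1 := by rw [← hTu, Units.inv_mul]
      obtain ⟨v, hv1, hv2, hSv⟩ := exists_noneigen hK (f := S) (by
        rintro ⟨c, hc⟩
        exact quadratic_contradiction h3 hdet hns hinj (c := c)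
          (by rw [← hS', hc, mul_smul_comm, mul_one])) hA hB
      have hne : T v ∉ K ∙ v := by
        intro h
        obtain ⟨a, ha⟩ := Submodule.mem_span_singleton.1 h
        have h1 : ((T - 1) ^ 2 : End K V) v = ((a - 1) ^ 2) • v := by
          have h0 : (T - 1) v = (a - 1) • v := by simp [← ha, sub_smul]
          rw [sq, Module.End.mul_apply, h0, map_smul, h0, smul_smul, sq]
        have hv0 : v ≠ 0 := fun h => hv1 (h ▸ Submodule.zero_mem _)
        have ha0 : a ≠ 0 := fun h => hv0 (by
          have := LinearMap.congr_fun hinvT v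
          rw [Module.End.mul_apply, ← ha, h, zero_smul, map_zero] at this
          simpa using this.symm)
        have h2 : ((Tu⁻¹ : (End K V)ˣ) : End K V) v = a⁻¹ • v := by
          have := LinearMap.congr_fun hinvT v
          rw [Module.End.mul_apply, ← ha, map_smul, Module.End.one_apply] at this
          conv_rhs => rw [← this, inv_smul_smul₀ ha0]
        refine hSv (Submodule.mem_span_singleton.2 ⟨(a - 1) ^ 2 * a⁻¹, ?_⟩)
        rw [hS, Module.End.mul_apply, h1, map_smul, h2, smul_smul]
      obtain ⟨w, hw⟩ := LinearMap.surjective_of_injective (LinearMap.ker_eq_bot.1 hinj) (T v)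
      obtain ⟨hy', hx'⟩ := key v hv1 hv2
      refine ⟨v, w, hy', hne, hx', ?_, fun h => by omega, fun _ φ hφv hφw => ?_⟩
      · intro h
        obtain ⟨c, hc⟩ := Submodule.mem_span_singleton.1 h
        have h1 : T v = c • ((T - 1) ^ 2 : End K V) v := by
          rw [← hw, ← hc, map_smul, sq, Module.End.mul_apply]
          simp
        rw [← hS', Module.End.mul_apply, ← map_smul] at h1
        have h2 : v = c • S v := by
          have := congrArg ((Tu⁻¹ : (End K V)ˣ) : End K V) h1
          rw [← Module.End.mul_apply, ← Module.End.mul_apply, hinvT] at this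
          simpa using this
        have hv0 : v ≠ 0 := fun h => hv1 (h ▸ Submodule.zero_mem _)
        have hc0 : c ≠ 0 := fun h => hv0 (by rw [h2, h, zero_smul])
        exact hSv (Submodule.mem_span_singleton.2 ⟨c⁻¹, by
          conv_lhs => rw [h2, inv_smul_smul₀ hc0]⟩)
      · have hnm : T v ∉ (ker φ).map (T - 1) := by
          rintro ⟨u, hu, hu'⟩
          rw [← hw] at hu'
          exact hφw (LinearMap.ker_eq_bot.1 hinj hu' ▸ hu)
        have := finrank_range_le_map_add_one (T := T) hφv
        rw [finrank_span3 hnm]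
        omega
    · obtain ⟨v, hv1, hv2, hne⟩ := exists_noneigen hK hns hA hB
      obtain ⟨hy', hx'⟩ := key v hv1 hv2
      refine ⟨v, v, hy', hne, hx', sub_notMem_of_noneigen hne, fun _ _ => rfl, fun h φ hφv _ => ?_⟩
      have hb1 := finrank_range_le_map_add_one (T := T) hφv
      exact le_trans (by omega : 3 ≤ finrank K ((ker φ).map (T - 1)))
        (Submodule.finrank_mono le_sup_left)

/-- The scalar restrictions: the functional and the scalar determine each other. -/
lemma scalar_rest {T : End K V} {v : V} {φ : Dual K V} {a : K} (hv : φ v = 1) (hTv : φ (T v) = 1)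
    (h : ∀ u, φ u = 0 → T u - φ (T u) • T v = a • u) (u : V) :
    T u - a • u = φ (T u) • T v - (a * φ u) • v := by
  have h1 := h (u - φ u • v) (by simp [hv])
  simp only [map_sub, map_smul, smul_sub, sub_smul, smul_eq_mul, hTv, mul_one] at h1
  linear_combination (norm := module) h1

lemma span3_le_range_rest [FiniteDimensional K V] {T : End K V} {v : V} {φ : Dual K V}
    (hv : φ v = 1) (hTv : φ (T v) = 1) :
    finrank K (span3 T v φ) ≤ finrank K (range (rest T hTv - 1)) + 1 := by
  have hle : span3 T v φ ≤ (range (rest T hTv - 1)).map (ker φ).subtype ⊔ K ∙ T v := by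
    refine sup_le ?_ le_sup_right
    rintro _ ⟨u, hu, rfl⟩
    rw [show (T - 1) u = ((ker φ).subtype ((rest T hTv - 1) ⟨u, hu⟩)) + φ (T u) • T v by
      simp [coe_rest]; abel]
    exact Submodule.add_mem_sup (Submodule.mem_map_of_mem ⟨_, rfl⟩)
      (Submodule.smul_mem _ _ (Submodule.mem_span_singleton_self _))
  refine (Submodule.finrank_mono hle).trans ((Submodule.finrank_add_le_finrank_add_finrank _ _).trans ?_)
  have h1 : finrank K (K ∙ T v : Submodule K V) ≤ 1 := by
    simpa using finrank_span_le_card ({T v} : Set V)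
  have h2 := Submodule.finrank_map_subtype_eq (ker φ) (range (rest T hTv - 1))
  omega

lemma finrank_ker_phi [FiniteDimensional K V] {φ : Dual K V} {v : V} (hv : φ v = 1) :
    finrank K (ker φ) + 1 = finrank K V := by
  have h := finrank_range_add_finrank_ker φ
  rw [range_eq_top.2 (fun a => ⟨a • v, by simp [hv]⟩), finrank_top, finrank_self] at h
  omega

/-- The choice of the functional. -/
lemma exists_functional [FiniteDimensional K V] (hK : HasMoreThan K 3)
    (hK4 : (2 : K) ≠ 0 → HasMoreThan K 4) {T : End K V} {x v z : V}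
    (hdet : LinearMap.det T = 1) (hn : 3 ≤ finrank K V) (hr : 2 ≤ finrank K (range (T - 1)))
    (hne : T v ∉ K ∙ v) (hx : x ∉ K ∙ (T v - v)) (hz : z ∉ K ∙ (T v - v))
    (hzv : 4 ≤ finrank K V → 3 ≤ finrank K (range (T - 1)) → z = v)
    (hspan : ∀ φ : Dual K V, φ v = 1 → φ z ≠ 0 → 3 ≤ finrank K (span3 T v φ)) :
    ∃ φ : Dual K V, φ v = 1 ∧ φ (T v) = 1 ∧ φ x ≠ 0 ∧ φ z ≠ 0 ∧ nextFun φ T ≠ 0 ∧
      ¬ ∃ a : K, ∀ u, φ u = 0 → T u - φ (T u) • T v = a • u := by
  classical
  let Bad : Dual K V → Prop := fun φ => φ v = 1 ∧ φ (T v) = 1 ∧ φ z ≠ 0 ∧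
    ∃ a : K, ∀ u, φ u = 0 → T u - φ (T u) • T v = a • u
  obtain ⟨φ₀, hφ0, hφ0', -⟩ := exists_phi hne (sub_notMem_of_noneigen hne)
  let D : Submodule K (Dual K V) := ker (Dual.eval K V v) ⊓ ker (Dual.eval K V (T v))
  have hmemD : ∀ φ : Dual K V, φ v = 1 → φ (T v) = 1 → φ - φ₀ ∈ D := fun φ h1 h2 => by
    simp [D, h1, h2, hφ0, hφ0']
  have hA : ∀ S : Submodule K (Dual K V), (∃ φ : Dual K V, φ v = 1 ∧ φ (T v) = 1 ∧ φ ∉ S) →
      ∃ d ∈ D, φ₀ + d ∉ S := by
    rintro S ⟨φ, h1, h2, h3⟩
    exact ⟨φ - φ₀, hmemD φ h1 h2, by simpa using h3⟩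
  have hSx : ∃ φ : Dual K V, φ v = 1 ∧ φ (T v) = 1 ∧ φ ∉ ker (Dual.eval K V x) := by
    simpa using exists_phi hne hx
  have hSz : ∃ φ : Dual K V, φ v = 1 ∧ φ (T v) = 1 ∧ φ ∉ ker (Dual.eval K V z) := by
    simpa using exists_phi hne hz
  have hSb : ∃ φ : Dual K V, φ v = 1 ∧ φ (T v) = 1 ∧ φ ∉ ker (T - 1).dualMap := by
    obtain ⟨w, hw, hw'⟩ : ∃ w ∈ range (T - 1), w ∉ K ∙ (T v - v) := by
      by_contra! h
      have := (Submodule.finrank_mono (fun w hw => h w hw :
        range (T - 1) ≤ K ∙ (T v - v))).trans (finrank_span_le_card ({T v - v} : Set V))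
      simp at this
      omega
    obtain ⟨φ, h1, h2, h3⟩ := exists_phi hne hw'
    obtain ⟨u, rfl⟩ := hw
    exact ⟨φ, h1, h2, fun h => h3 (LinearMap.congr_fun (mem_ker.1 h) u)⟩
  have hnot : ∀ φ : Dual K V, φ v = 1 → φ (T v) = 1 → φ ∉ ker (T - 1).dualMap →
      nextFun φ T ≠ 0 := by
    intro φ h1 h2 h3 h0
    refine h3 (mem_ker.2 (LinearMap.ext fun u => ?_))
    have := LinearMap.congr_fun h0 ⟨u - φ u • v, by simp [h1]⟩
    simp [nextFun, h2] at this
    simpa [sub_eq_zero] using this
  have finish : ∀ d ∈ D, φ₀ + d ∉ ker (Dual.eval K V x) → φ₀ + d ∉ ker (Dual.eval K V z) →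
      φ₀ + d ∉ ker (T - 1).dualMap → ¬ Bad (φ₀ + d) →
      ∃ φ : Dual K V, φ v = 1 ∧ φ (T v) = 1 ∧ φ x ≠ 0 ∧ φ z ≠ 0 ∧ nextFun φ T ≠ 0 ∧
        ¬ ∃ a : K, ∀ u, φ u = 0 → T u - φ (T u) • T v = a • u := by
    intro d hd h1 h2 h3 h4
    simp [D] at hd
    have e1 : (φ₀ + d) v = 1 := by simp [hφ0, hd.1]
    have e2 : (φ₀ + d) (T v) = 1 := by simp [hφ0', hd.2]
    exact ⟨φ₀ + d, e1, e2, by simpa using h1, by simpa using h2, hnot _ e1 e2 h3,
      fun hb => h4 ⟨e1, e2, by simpa using h2, hb⟩⟩
  -- facts on a functional with scalar restriction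
  have hbad : ∀ φ : Dual K V, ∀ a : K, φ v = 1 → φ (T v) = 1 → φ z ≠ 0 →
      (∀ u, φ u = 0 → T u - φ (T u) • T v = a • u) →
      a ≠ 1 ∧ a ^ (finrank K V - 1) = 1 ∧ range (T - a • 1) ≤ Submodule.span K {v, T v} := by
    intro φ a h1 h2 h3 h
    have hrest : rest T h2 = a • 1 := LinearMap.ext fun u => Subtype.ext (by
      rw [coe_rest]; simpa using h u u.2)
    refine ⟨fun ha => ?_, ?_, ?_⟩
    · have := (hspan φ h1 h3).trans (span3_le_range_rest h1 h2)
      rw [hrest, ha, one_smul, sub_self, range_zero, finrank_bot] at this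
      omega
    · have hd := det_rest (T := T) h1 h2
      rw [hrest, hdet, LinearMap.det_smul, map_one, mul_one] at hd
      rwa [show finrank K V - 1 = finrank K (ker φ) by have := finrank_ker_phi h1; omega]
    · rintro _ ⟨u, rfl⟩
      rw [show (T - a • 1) u = T u - a • u by simp, scalar_rest h1 h2 h u]
      exact sub_mem (Submodule.smul_mem _ _ (Submodule.subset_span (by simp)))
        (Submodule.smul_mem _ _ (Submodule.subset_span (by simp)))
  have hle2 : ∀ a : K, range (T - a • 1) ≤ Submodule.span K {v, T v} →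
      finrank K V ≤ finrank K (ker (T - a • 1)) + 2 := by
    intro a ha
    have h1 : finrank K (range (T - a • 1)) + finrank K (ker (T - a • 1)) = finrank K V :=
      finrank_range_add_finrank_ker _
    have h2 : finrank K (Submodule.span K ({v, T v} : Set V)) ≤ 2 := by
      refine (finrank_span_le_card _).trans ?_
      simpa using Finset.card_insert_le v ({T v} : Finset V)
    have := Submodule.finrank_mono ha
    omega
  by_cases hex : ∃ ψ, Bad ψ
  swap
  · obtain ⟨d, hd, hd'⟩ := exists_affine_avoid hK D φ₀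
      {ker (Dual.eval K V x), ker (Dual.eval K V z), ker (T - 1).dualMap} Finset.card_le_three
      (by simp only [Finset.mem_insert, Finset.mem_singleton, forall_eq_or_imp, forall_eq]
          exact ⟨hA _ hSx, hA _ hSz, hA _ hSb⟩)
    simp only [Finset.mem_insert, Finset.mem_singleton, forall_eq_or_imp, forall_eq] at hd'
    exact finish d hd hd'.1 hd'.2.1 hd'.2.2 fun h => hex ⟨_, h⟩
  obtain ⟨ψ, hψ1, hψ2, hψz, a, hψ⟩ := hex
  obtain ⟨ha1, hapow, harange⟩ := hbad ψ a hψ1 hψ2 hψz hψ
  have huniq : ∀ φ, Bad φ → φ ∈ K ∙ ψ := by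
    rintro φ ⟨h1, h2, h3, b, hb⟩
    obtain ⟨hb1, hbpow, hbrange⟩ := hbad φ b h1 h2 h3 hb
    have hab : a = b := by
      by_cases h4 : 4 ≤ finrank K V
      · by_contra hab
        exact not_two_large_eigenspaces hne hab h4 harange (hle2 b hbrange)
      · have h32 : finrank K V - 1 = 2 := by omega
        rw [h32] at hapow hbpow
        rw [(sq_eq_one_iff.1 hapow).resolve_left ha1, (sq_eq_one_iff.1 hbpow).resolve_left hb1]
    subst hab
    have heq : φ = ψ := by
      have ha0 : a ≠ 0 := fun h => by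
        rw [h, zero_pow (by omega : finrank K V - 1 ≠ 0)] at hapow
        exact zero_ne_one hapow
      refine LinearMap.ext fun u => ?_
      have h := (scalar_rest h1 h2 hb u).symm.trans (scalar_rest hψ1 hψ2 hψ u)
      have hv' : (a * φ u - a * ψ u) • v = (φ (T u) - ψ (T u)) • T v := by
        simp only [sub_smul]; linear_combination (norm := module) -h
      by_cases hc : φ (T u) - ψ (T u) = 0
      · rw [hc, zero_smul, ← mul_sub, smul_eq_zero] at hv'
        rcases hv' with h' | h'
        · exact sub_eq_zero.1 ((mul_eq_zero.1 h').resolve_left ha0)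
        · exact absurd (by simp [h']) hne
      · exact absurd (Submodule.mem_span_singleton.2 ⟨(φ (T u) - ψ (T u))⁻¹ * (a * φ u - a * ψ u),
          by rw [mul_smul, hv', inv_smul_smul₀ hc]⟩) hne
    rw [heq]
    exact Submodule.mem_span_singleton_self ψ
  have hSd : ∃ φ : Dual K V, φ v = 1 ∧ φ (T v) = 1 ∧ φ ∉ K ∙ ψ := by
    obtain ⟨w, hw, hw'⟩ : ∃ w ∈ ker ψ, w ∉ K ∙ (T v - v) := by
      by_contra! h
      have h0 := finrank_ker_phi hψ1
      have := (Submodule.finrank_mono (fun w hw => h w hw :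
        ker ψ ≤ K ∙ (T v - v))).trans (finrank_span_le_card ({T v - v} : Set V))
      simp at this
      omega
    obtain ⟨φ, h1, h2, h3⟩ := exists_phi hne hw'
    refine ⟨φ, h1, h2, fun h => h3 ?_⟩
    obtain ⟨c, rfl⟩ := Submodule.mem_span_singleton.1 h
    simp [mem_ker.1 hw]
  by_cases h4 : 4 ≤ finrank K V
  · have hz' : z = v := hzv h4 (by
      by_contra hr3
      refine not_two_large_eigenspaces hne ha1 h4 harange ?_
      have h1 : finrank K (range (T - (1 : K) • 1)) + finrank K (ker (T - (1 : K) • 1)) =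
          finrank K V := finrank_range_add_finrank_ker _
      rw [one_smul] at h1 ⊢
      omega)
    obtain ⟨d, hd, hd'⟩ := exists_affine_avoid hK D φ₀
      {ker (Dual.eval K V x), K ∙ ψ, ker (T - 1).dualMap} Finset.card_le_three
      (by simp only [Finset.mem_insert, Finset.mem_singleton, forall_eq_or_imp, forall_eq]
          exact ⟨hA _ hSx, hA _ hSd, hA _ hSb⟩)
    simp only [Finset.mem_insert, Finset.mem_singleton, forall_eq_or_imp, forall_eq] at hd'
    refine finish d hd hd'.1 ?_ hd'.2.2 fun h => hd'.2.1 (huniq _ h)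
    simp [D] at hd
    simp [hz', hφ0, hd.1]
  · have h2 : (2 : K) ≠ 0 := fun h0 => by
      rw [show finrank K V - 1 = 2 by omega] at hapow
      refine ha1 ?_
      rcases sq_eq_one_iff.1 hapow with h | h
      · exact h
      · rw [h]; linear_combination -h0
    obtain ⟨d, hd, hd'⟩ := exists_affine_avoid (hK4 h2) D φ₀
      {ker (Dual.eval K V x), ker (Dual.eval K V z), ker (T - 1).dualMap, K ∙ ψ} Finset.card_le_four
      (by simp only [Finset.mem_insert, Finset.mem_singleton, forall_eq_or_imp, forall_eq]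
          exact ⟨hA _ hSx, hA _ hSz, hA _ hSb, hA _ hSd⟩)
    simp only [Finset.mem_insert, Finset.mem_singleton, forall_eq_or_imp, forall_eq] at hd'
    exact finish d hd hd'.1 hd'.2.1 hd'.2.2.1 fun h => hd'.2.2.2 (huniq _ h)

/-- A non-scalar map with determinant one, with `T - 1` of rank at least two, is a product of two
regular unipotent maps, in any relative position to `x` and `y`. -/
theorem factors (hK : HasMoreThan K 3) (hK4 : (2 : K) ≠ 0 → HasMoreThan K 4) (m : ℕ) :
    ∀ {V : Type u} [AddCommGroup V] [Module K V] [FiniteDimensional K V], finrank K V = m + 1 →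
      ∀ (T : End K V), LinearMap.det T = 1 →
      (1 ≤ m → (¬ ∃ c : K, T = c • 1) ∧ 2 ≤ finrank K (range (T - 1))) →
      ∀ (x : V) (y : Dual K V), x ≠ 0 → y ≠ 0 → Factors m T x y := by
  induction m with
  | zero =>
    intro V _ _ _ hn T hdet _ x y hx hy
    obtain ⟨b, hb⟩ : ∃ b : V, b ≠ 0 :=
      have : Nontrivial V := Module.nontrivial_of_finrank_pos (R := K) (by omega)
      exists_ne 0
    obtain ⟨c, hc⟩ := (finrank_eq_one_iff_of_nonzero' b hb).1 hn (T b)
    have hT : T = c • 1 := LinearMap.ext fun u => by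
      obtain ⟨a, rfl⟩ := (finrank_eq_one_iff_of_nonzero' b hb).1 hn u
      rw [map_smul, ← hc, LinearMap.smul_apply, Module.End.one_apply, smul_comm]
    rw [hT, LinearMap.det_smul, hn, map_one, mul_one, zero_add, pow_one] at hdet
    rw [hdet, one_smul] at hT
    refine ⟨1, 1, by simp [hT], by simp, by simp, by simpa using hx, ?_⟩
    obtain ⟨h, hh⟩ : ∃ h, y h ≠ 0 := by
      by_contra! h0
      exact hy (LinearMap.ext h0)
    exact ⟨h, by simpa using hh⟩
  | succ m ih =>
    intro V _ _ _ hn T hdet hT x y hx hy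
    obtain ⟨hns, hr⟩ := hT (by omega)
    obtain ⟨v, z, hyv, hne, hx', hz, hzv, hspan⟩ := exists_vector hK hdet hns hr hx hy
    have hnext : ∀ φ : Dual K V, ∀ (h1 : φ v = 1) (h2 : φ (T v) = 1), nextVec T h1 h2 ≠ 0 :=
      fun φ h1 h2 h => hne (by
        have := congrArg Subtype.val h
        simp [nextVec, sub_eq_zero] at this
        rw [this]
        exact Submodule.mem_span_singleton_self v)
    rcases Nat.eq_zero_or_pos m with rfl | hm
    · obtain ⟨φ, h1, h2, h3⟩ := exists_phi hne hx'
      have hk := finrank_ker_phi h1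
      refine factors_extend h1 h2 h3 hyv (ih (by omega) _ ((det_rest h1 h2).trans hdet)
        (fun h => absurd h (by omega)) _ _ (hnext φ h1 h2) ?_)
      intro h0
      have hfix : ∀ u, φ (T u) = φ u := fun u => by
        have := LinearMap.congr_fun h0 ⟨u - φ u • v, by simp [h1]⟩
        simpa [nextFun, h2, sub_eq_zero] using this
      have hle : range (T - 1) ≤ ker φ := by
        rintro _ ⟨u, rfl⟩
        simp [hfix]
      have := Submodule.finrank_mono hle
      omega
    · obtain ⟨φ, h1, h2, h3, h4, h5, h6⟩ :=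
        exists_functional hK hK4 hdet (by omega) hr hne hx' hz hzv (hspan (by omega))
      have hk := finrank_ker_phi h1
      refine factors_extend h1 h2 h3 hyv (ih (by omega) _ ((det_rest h1 h2).trans hdet)
        (fun _ => ⟨?_, ?_⟩) _ _ (hnext φ h1 h2) h5)
      · rintro ⟨a, ha⟩
        refine h6 ⟨a, fun u hu => ?_⟩
        simpa [coe_rest] using congrArg Subtype.val (LinearMap.congr_fun ha ⟨u, hu⟩)
      · have := (hspan (by omega) φ h1 h4).trans (span3_le_range_rest h1 h2)
        omega

end CfsgLib.KnownSimple.RegUnip
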